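import Groth.Agent.H14AlgSt.SubstackGen
import Groth.Agent.H14AlgSt.Invariance
import Groth.Agent.H14Fib.GenCalc

/-!
# Open substacks of algebraic stacks in arbitrary universes

`H14AlgSt.SubstackGen` is stated for `AlgSt.Cat S`; the stacks of curves live one universe higher.
-/

set_option autoImplicit false
set_option linter.style.haveILetI false
set_option backward.isDefEq.respectTransparency false
set_option backward.isDefEq.respectTransparency.types false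

universe v₇ u₇ v₆ u₆ v₅ u₅ v₄ u₄ v₃ u₃ v₂ u₂ v₁ u₁ u

open CategoryTheory CategoryTheory.Functor Opposite AlgebraicGeometry CategoryTheory.Limits

noncomputable section

namespace Groth.Agent.H29Stk

open H14Fib hiding appIso appIso_lift appIso_inv_lift fpMapIso fpMapIso_lift fpMap fpMap_isEquivOver fp_congr_left fp_congr_right pasteBaseIso pasteBaseIso_lift pasteBase pasteBase_isEquivOver basedId_full basedId_faithful essSurjOver_id fpSwap fpSwap_isEquivOver swap_iso_lift fpSwap_fst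
open H14Stk
open H14FibU (fpMap fpMapIso fpMap_isEquivOver essSurjOver_id appIso_lift appIso_inv_lift basedId_full basedId_faithful)
open H14AlgSt (subU subUIncl subUIncl_factor repByAlgSp_of_equiv' RepData toOverCat_isEquivOver spMapOfOver_overMap spMapOfOver_toOverCat exists_fppf_family)

variable {S : Scheme.{u}} {𝒳 : BasedCategory.{v₁, u₁} (Over S)} {Q : 𝒳.obj → Prop} {U : Over S}

local notation "K₀" => Scheme.fppfPrecoverage

section Swap

variable {C : Type u₂} [Category.{v₂} C] {𝒜 : BasedCategory.{v₃, u₃} C} {ℬ : BasedCategory.{v₄, u₄} C}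
  {𝒮 : BasedCategory.{v₅, u₅} C} (F : 𝒜 ⥤ᵇ 𝒮) (G : ℬ ⥤ᵇ 𝒮)

/-- `(x, y, i) ↦ (y, x, i⁻¹)`. -/
def fpSwap : FibCat.fp F G ⥤ᵇ FibCat.fp G F where
  toFunctor :=
    { obj := fun x => fpObj x.obj.snd x.obj.fst x.obj.iso.symm (fp_snd_obj x)
        (@IsHomLift.lift_id_inv _ _ _ _ 𝒮.p _ _ _ x.obj.iso x.property)
      map := fun {x y} m => fpHom m.hom.snd m.hom.fst (by
        change G.map m.hom.snd ≫ y.obj.iso.inv = x.obj.iso.inv ≫ F.map m.hom.fst
        rw [Iso.comp_inv_eq, Category.assoc, Iso.eq_inv_comp]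
        exact m.hom.w.symm)
      map_id := fun x => fp_hom_ext rfl rfl
      map_comp := fun m n => fp_hom_ext rfl rfl }
  w := (FibCat.fpSnd F G).w

lemma fpSwap_isEquivOver : FibCat.IsEquivOver (fpSwap F G) :=
  ⟨fpSwap G F, ⟨eqToIso rfl⟩, ⟨eqToIso rfl⟩⟩

end Swap

section Rep

variable {𝒜 : BasedCategory.{v₃, u₃} (Over S)} {ℬ : BasedCategory.{v₄, u₄} (Over S)}
  {𝒵 : BasedCategory.{v₅, u₅} (Over S)} {P : MorphismProperty (AlgSp.Sp S)}

lemma repWith_fpFst {f : 𝒜 ⥤ᵇ ℬ} (g : 𝒵 ⥤ᵇ ℬ) (h : AlgSt.RepByAlgSpWith P f) :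
    AlgSt.RepByAlgSpWith P (FibCat.fpFst g f) := fun V y =>
  RepData.of_equiv' P (H14FibU.pasteBase_isEquivOver g f y) (Iso.refl _) (h V (BasedFunctor.comp y g))

lemma repWith_equiv_comp {e : 𝒜 ⥤ᵇ ℬ} {f : ℬ ⥤ᵇ 𝒵} (he : FibCat.IsEquivOver e)
    (h : AlgSt.RepByAlgSpWith P f) : AlgSt.RepByAlgSpWith P (BasedFunctor.comp e f) := fun V y => by
  obtain ⟨⟨_, _⟩, he'⟩ := (isEquivOver_iff e).1 he
  have := basedId_full (FibCat.overCat V)
  have := basedId_faithful (FibCat.overCat V)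
  have := basedId_full 𝒵
  have := basedId_faithful 𝒵
  exact RepData.of_equiv' P
    (E := fpMap (BasedFunctor.id (FibCat.overCat V)) e (BasedFunctor.id 𝒵) (Iso.refl y)
      (Iso.refl (BasedFunctor.comp e f)))
    (fpMap_isEquivOver _ _ _ _ _ (essSurjOver_id _) he') (Iso.refl _) (h V y)

end Rep

section FpMapLifts

variable {𝒜 : BasedCategory.{v₂, u₂} (Over S)} {𝒜' : BasedCategory.{v₃, u₃} (Over S)}
  {ℬ : BasedCategory.{v₄, u₄} (Over S)} {ℬ' : BasedCategory.{v₅, u₅} (Over S)}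
  {𝒮 : BasedCategory.{v₆, u₆} (Over S)} {𝒮' : BasedCategory.{v₇, u₇} (Over S)}
  {F : 𝒜 ⥤ᵇ 𝒮} {G : ℬ ⥤ᵇ 𝒮} {F' : 𝒜' ⥤ᵇ 𝒮'} {G' : ℬ' ⥤ᵇ 𝒮'}
  (a : 𝒜' ⥤ᵇ 𝒜) (b : ℬ' ⥤ᵇ ℬ) (c : 𝒮' ⥤ᵇ 𝒮)
  (e₁ : BasedFunctor.comp F' c ≅ BasedFunctor.comp a F)
  (e₂ : BasedFunctor.comp G' c ≅ BasedFunctor.comp b G)

/-- Functoriality of fibre products along fully faithful functors with enough lifts. -/
lemma fpMap_isEquivOver_of_lifts [a.toFunctor.Full] [a.toFunctor.Faithful] [b.toFunctor.Full]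
    [b.toFunctor.Faithful] [c.toFunctor.Full] [c.toFunctor.Faithful]
    (ha : EssSurjOver a)
    (hb : ∀ z : (FibCat.fp F G).obj, ∃ (y' : ℬ'.obj) (d' : b.obj y' ≅ z.obj.snd),
      ℬ.p.IsHomLift (𝟙 (ℬ.p.obj z.obj.snd)) d'.hom) :
    FibCat.IsEquivOver (fpMap a b c e₁ e₂) := by
  refine (isEquivOver_iff _).2 ⟨⟨⟨fun {x y} f => ?_⟩, ⟨fun {x y} f g h => ?_⟩⟩, fun z => ?_⟩
  · refine ⟨fpHom (a.toFunctor.preimage f.hom.fst) (b.toFunctor.preimage f.hom.snd) ?_,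
      fp_hom_ext (a.toFunctor.map_preimage _) (b.toFunctor.map_preimage _)⟩
    apply c.toFunctor.map_injective
    have hw : F.map f.hom.fst ≫ (fpMapIso a b c e₁ e₂ y).hom =
        (fpMapIso a b c e₁ e₂ x).hom ≫ G.map f.hom.snd := f.hom.w
    have h1 : F.map (a.map (a.toFunctor.preimage f.hom.fst)) ≫ (H14FibU.appIso e₁ y.obj.fst).inv =
        (H14FibU.appIso e₁ x.obj.fst).inv ≫ c.map (F'.map (a.toFunctor.preimage f.hom.fst)) :=
      e₁.inv.toNatTrans.naturality (a.toFunctor.preimage f.hom.fst)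
    have h2 : c.map (G'.map (b.toFunctor.preimage f.hom.snd)) ≫ (H14FibU.appIso e₂ y.obj.snd).hom =
        (H14FibU.appIso e₂ x.obj.snd).hom ≫ G.map (b.map (b.toFunctor.preimage f.hom.snd)) :=
      e₂.hom.toNatTrans.naturality (b.toFunctor.preimage f.hom.snd)
    rw [a.toFunctor.map_preimage] at h1
    rw [b.toFunctor.map_preimage] at h2
    rw [← cancel_epi (H14FibU.appIso e₁ x.obj.fst).inv, ← cancel_mono (H14FibU.appIso e₂ y.obj.snd).hom]
    simp only [fpMapIso, Iso.trans_hom, Iso.symm_hom, Functor.mapIso_hom, Category.assoc] at hw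
    simp only [Functor.map_comp, Category.assoc]
    rw [← reassoc_of% h1, h2]
    exact hw
  · exact fp_hom_ext (a.toFunctor.map_injective (congrArg (fun t => t.hom.fst) h))
      (b.toFunctor.map_injective (congrArg (fun t => t.hom.snd) h))
  · obtain ⟨x', d, hd⟩ := ha z.obj.fst
    obtain ⟨y', d', hd'⟩ := hb z
    have hxU : 𝒜'.p.obj x' = 𝒜.p.obj z.obj.fst := EssSurjOver.obj_eq d.hom
    have hyU : ℬ'.p.obj y' = 𝒜.p.obj z.obj.fst :=
      (EssSurjOver.obj_eq d'.hom).trans (fp_snd_obj z)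
    have hd'U : ℬ.p.IsHomLift (𝟙 (𝒜.p.obj z.obj.fst)) d'.hom := fp_snd_obj z ▸ hd'
    have hd'i := IsHomLift.lift_id_inv ℬ.p (𝒜.p.obj z.obj.fst) d'
    let i : c.obj (F'.obj x') ≅ c.obj (G'.obj y') :=
      H14FibU.appIso e₁ x' ≪≫ F.toFunctor.mapIso d ≪≫ z.obj.iso ≪≫ (G.toFunctor.mapIso d').symm ≪≫
        (H14FibU.appIso e₂ y').symm
    have hi : 𝒮.p.IsHomLift (𝟙 (𝒜.p.obj z.obj.fst)) i.hom :=
      homLift_id_comp (appIso_lift e₁ hxU) (homLift_id_comp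
        (BasedFunctor.preserves_isHomLift F _ d.hom) (homLift_id_comp z.property
          (homLift_id_comp (BasedFunctor.preserves_isHomLift G _ d'.inv)
            (appIso_inv_lift e₂ hyU))))
    let i' := c.toFunctor.preimageIso i
    have hi' : 𝒮'.p.IsHomLift (𝟙 (𝒜.p.obj z.obj.fst)) i'.hom := by
      rw [← BasedFunctor.isHomLift_iff c]
      change 𝒮.p.IsHomLift _ (c.map (c.toFunctor.preimage i.hom))
      rw [c.toFunctor.map_preimage]
      exact hi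
    refine ⟨fpObj x' y' i' hxU hi', fpIsoMk d d' ?_, (fp_isHomLift_iff _ _).2 hd⟩
    change F.map d.hom ≫ z.obj.iso.hom =
      ((H14FibU.appIso e₁ x').inv ≫ c.map (c.toFunctor.preimage i.hom) ≫ (H14FibU.appIso e₂ y').hom) ≫ G.map d'.hom
    rw [c.toFunctor.map_preimage]
    simp only [i, Iso.trans_hom, Iso.symm_hom, Functor.mapIso_hom, Functor.mapIso_inv,
      Category.assoc, Iso.inv_hom_id_assoc]
    rw [← Functor.map_comp, d'.inv_hom_id, CategoryTheory.Functor.map_id, Category.comp_id]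

end FpMapLifts

/-- A functor whose values have a property, as a functor into the full subcategory. -/
def liftSub {Q : 𝒳.obj → Prop} {𝒜 : BasedCategory.{v₂, u₂} (Over S)} (F : 𝒜 ⥤ᵇ 𝒳) (h : ∀ a, Q (F.obj a)) :
    𝒜 ⥤ᵇ AlgSt.fullSub 𝒳 Q where
  toFunctor := ObjectProperty.lift Q F.toFunctor h
  w := F.w

/-- The lift followed by the inclusion. -/
def liftSubIso {Q : 𝒳.obj → Prop} {𝒜 : BasedCategory.{v₂, u₂} (Over S)} (F : 𝒜 ⥤ᵇ 𝒳) (h : ∀ a, Q (F.obj a)) :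
    BasedFunctor.comp (liftSub F h) (AlgSt.subIncl 𝒳 Q) ≅ F :=
  mkIso (fun a => Iso.refl _)
    (fun {_ _} φ => (Category.comp_id _).trans (Category.id_comp _).symm)
    (fun a => IsHomLift.id (F.w_obj a))

instance subIncl_full (Q : 𝒳.obj → Prop) : (AlgSt.subIncl 𝒳 Q).toFunctor.Full :=
  inferInstanceAs (ObjectProperty.ι Q).Full

instance subIncl_faithful (Q : 𝒳.obj → Prop) : (AlgSt.subIncl 𝒳 Q).toFunctor.Faithful :=
  inferInstanceAs (ObjectProperty.ι Q).Faithful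

/-- A predicate stable under pullback gives a category fibred in groupoids. -/
lemma fullSub_fibGrpd_of_hom (hh : ∀ {a b : 𝒳.obj}, (b ⟶ a) → Q a → Q b)
    (hX : FibCat.IsFibGrpd 𝒳.p) : FibCat.IsFibGrpd (AlgSt.fullSub 𝒳 Q).p where
  exists_lift {a V} f := by
    obtain ⟨b, φ, hφ⟩ := hX.exists_lift (x := a.obj) f
    exact ⟨⟨b, hh φ a.property⟩, ObjectProperty.homMk φ,
      (BasedFunctor.isHomLift_iff (AlgSt.subIncl 𝒳 Q) f _).1 hφ⟩
  isStronglyCartesian {b a} φ := by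
    have := hX.isStronglyCartesian φ.hom
    refine ⟨fun {c} g ψ hψ => ?_⟩
    have hψ' : 𝒳.p.IsHomLift (g ≫ 𝒳.p.map φ.hom) ψ.hom :=
      (BasedFunctor.isHomLift_iff (AlgSt.subIncl 𝒳 Q) _ ψ).2 hψ
    obtain ⟨χ, ⟨hχ₁, hχ₂⟩, huniq⟩ := IsStronglyCartesian.universal_property 𝒳.p
      (𝒳.p.map φ.hom) φ.hom g _ rfl ψ.hom
    refine ⟨ObjectProperty.homMk χ,
      ⟨(BasedFunctor.isHomLift_iff (AlgSt.subIncl 𝒳 Q) g _).1 hχ₁,
        ObjectProperty.hom_ext _ hχ₂⟩, fun τ hτ => ObjectProperty.hom_ext _ (huniq τ.hom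
        ⟨(BasedFunctor.isHomLift_iff (AlgSt.subIncl 𝒳 Q) g τ).2 hτ.1,
          congrArg InducedCategory.Hom.hom hτ.2⟩)⟩

/-- `Q` is local for fppf coverings of charts. -/
def LocalPred (Q : 𝒳.obj → Prop) : Prop :=
  ∀ (U : Over S) (R : Sieve U), R ∈ QuotSh.J K₀ S U → ∀ H : FibCat.overCat U ⥤ᵇ 𝒳,
    (∀ s : (Stk.sieveCat R).obj, Q (H.obj s.obj)) → ∀ s, Q (H.obj s)

lemma fullSub_isStack_of_local (hh : ∀ {a b : 𝒳.obj}, (b ⟶ a) → Q a → Q b) (hl : LocalPred Q)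
    (hX : AlgSt.IsAlgStack K₀ 𝒳) : Stk.IsStack (QuotSh.J K₀ S) (AlgSt.fullSub 𝒳 Q) := by
  let i := AlgSt.subIncl 𝒳 Q
  refine ⟨fullSub_fibGrpd_of_hom hh hX.isStack.1, fun U R hR => ?_⟩
  have hp := isPrestackFor_of_fullyFaithful i
    ((isPrestack_of_isStack hX.isStack).2 R hR)
  have : (Stk.resSieve R (AlgSt.fullSub 𝒳 Q)).Full := hp.1
  have : (Stk.resSieve R (AlgSt.fullSub 𝒳 Q)).Faithful := hp.2
  have : (Stk.resSieve R 𝒳).IsEquivalence := hX.isStack.2 R hR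
  have : (Stk.resSieve R (AlgSt.fullSub 𝒳 Q)).EssSurj := ⟨fun G => by
    let G' := BasedFunctor.comp G i
    let H := (Stk.resSieve R 𝒳).objPreimage G'
    let eH : BasedFunctor.comp (Stk.sieveIncl R) H ≅ G' := (Stk.resSieve R 𝒳).objObjPreimageIso G'
    have hQ : ∀ s, Q (H.obj s) :=
      hl U R hR H fun a => hh (isoApp eH a).hom (G.obj a).property
    let H₀ := liftSub H hQ
    have : (post (Stk.sieveCat R) i).Full := post_full i
    have : (post (Stk.sieveCat R) i).Faithful := post_faithful i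
    exact ⟨H₀, ⟨(post (Stk.sieveCat R) i).preimageIso
      ((Stk.resSieve R 𝒳).mapIso (liftSubIso H hQ) ≪≫ eH)⟩⟩⟩
  exact { }

lemma fullSub_diag_of_hom (hh : ∀ {a b : 𝒳.obj}, (b ⟶ a) → Q a → Q b)
    (hX : AlgSt.IsAlgStack K₀ 𝒳) :
    AlgSt.RepByAlgSp1 (FibCat.diag (FibCat.toSelf (AlgSt.fullSub 𝒳 Q))) := by
  intro U y
  let 𝒰 := AlgSt.fullSub 𝒳 Q
  let i : 𝒰 ⥤ᵇ 𝒳 := AlgSt.subIncl 𝒳 Q
  let M : FibCat.fp (FibCat.toSelf 𝒰) (FibCat.toSelf 𝒰) ⥤ᵇ
      FibCat.fp (FibCat.toSelf 𝒳) (FibCat.toSelf 𝒳) :=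
    fpMap i i (BasedFunctor.id (FibCat.selfOver (Over S))) (Iso.refl _) (Iso.refl _)
  let e : BasedFunctor.comp (FibCat.diag (FibCat.toSelf 𝒰)) M ≅
      BasedFunctor.comp i (FibCat.diag (FibCat.toSelf 𝒳)) :=
    mkIso (fun a => fpIsoMk (Iso.refl _) (Iso.refl _) (by
        change 𝒳.p.map (𝟙 _) ≫ _ = _ ≫ 𝒳.p.map (𝟙 _)
        simp
        rfl))
      (fun {_ _} m => fp_hom_ext ((Category.comp_id _).trans (Category.id_comp _).symm)
        ((Category.comp_id _).trans (Category.id_comp _).symm))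
      (fun a => (fp_isHomLift_iff _ _).2 (IsHomLift.id rfl))
  let E : FibCat.fp y (FibCat.diag (FibCat.toSelf 𝒰)) ⥤ᵇ
      FibCat.fp (BasedFunctor.comp y M) (FibCat.diag (FibCat.toSelf 𝒳)) :=
    fpMap (BasedFunctor.id _) i M (Iso.refl _) e
  have hM : M.toFunctor.Faithful ∧ M.toFunctor.Full := by
    constructor
    · exact ⟨fun {a b} f g h => fp_hom_ext
        (ObjectProperty.hom_ext _ (congrArg (fun t => t.hom.fst) h))
        (ObjectProperty.hom_ext _ (congrArg (fun t => t.hom.snd) h))⟩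
    · refine ⟨fun {a b} f => ?_⟩
      refine ⟨ObjectProperty.homMk
        { fst := ObjectProperty.homMk f.hom.fst
          snd := ObjectProperty.homMk f.hom.snd
          w := ?_ }, fp_hom_ext rfl rfl⟩
      have hw := f.hom.w
      change 𝒳.p.map f.hom.fst ≫ _ = _ ≫ 𝒳.p.map f.hom.snd at hw
      change 𝒳.p.map f.hom.fst ≫ _ = _ ≫ 𝒳.p.map f.hom.snd
      simp only [M, fpMap, fpObj, fpMapIso, Iso.trans_hom, Iso.symm_hom, Functor.mapIso_hom] at hw
      erw [Category.id_comp, Category.id_comp, Category.comp_id] at hw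
      exact hw
  have := hM.1
  have := hM.2
  have hE : FibCat.IsEquivOver E :=
    fpMap_isEquivOver_of_lifts _ _ _ _ _ (essSurjOver_id _) fun z =>
      ⟨⟨z.obj.snd, hh z.obj.iso.inv.hom.fst (y.obj z.obj.fst).obj.fst.property⟩,
        Iso.refl _, IsHomLift.id rfl⟩
  exact repByAlgSp_of_equiv' hE (hX.diag U (BasedFunctor.comp y M))

variable {W : Over S} {x : FibCat.overCat U ⥤ᵇ 𝒳} {v : W ⟶ U}

lemma subspace_mem (hW : ∀ s : (FibCat.overCat U).obj,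
      Q (x.obj s) ↔ ∃ g : s.left ⟶ W, g ≫ v = s.hom)
    (s : (FibCat.overCat W).obj) : Q (x.obj ((AlgSt.overMap v).obj s)) :=
  (hW _).2 ⟨s.hom, rfl⟩

/-- A subspace of a chart as the fibre product with the substack. -/
def subspaceToFp (hW : ∀ s : (FibCat.overCat U).obj,
      Q (x.obj s) ↔ ∃ g : s.left ⟶ W, g ≫ v = s.hom) :
    FibCat.overCat W ⥤ᵇ FibCat.fp x (AlgSt.subIncl 𝒳 Q) :=
  FibCat.fpLift (AlgSt.overMap v)
    (liftSub (BasedFunctor.comp (AlgSt.overMap v) x) (subspace_mem hW)) (liftSubIso _ _).symm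

lemma subspaceToFp_isEquivOver [Mono v] (hc : ObjectProperty.IsClosedUnderIsomorphisms Q)
    (hW : ∀ s : (FibCat.overCat U).obj, Q (x.obj s) ↔ ∃ g : s.left ⟶ W, g ≫ v = s.hom) :
    FibCat.IsEquivOver (subspaceToFp hW) := by
  refine (isEquivOver_iff _).2 ⟨⟨⟨fun {a b} f => ?_⟩, ⟨fun {a b} f g e => ?_⟩⟩, fun z => ?_⟩
  · let φ₁ : (Over.map v).obj a ⟶ (Over.map v).obj b := f.hom.fst
    let φ : a ⟶ b := Over.homMk φ₁.left ((cancel_mono v).1
      ((Category.assoc _ _ _).trans (Over.w φ₁)))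
    refine ⟨φ, fp_hom_ext (Over.OverMorphism.ext rfl) ?_⟩
    apply ObjectProperty.hom_ext
    have hw := f.hom.w
    change x.map φ₁ ≫ 𝟙 _ = 𝟙 _ ≫ _ at hw
    rw [Category.comp_id, Category.id_comp] at hw
    exact hw
  · exact Over.OverMorphism.ext (congrArg (fun t => t.hom.fst.left) e)
  · obtain ⟨g', hg'⟩ := (hW z.obj.fst).1 (hc.of_iso z.obj.iso.symm z.obj.snd.property)
    let a : (FibCat.overCat W).obj := Over.mk g'
    let e₁ : (Over.map v).obj a ≅ z.obj.fst :=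
      Over.isoMk (Iso.refl _) ((Category.id_comp _).trans hg'.symm)
    let e₂ : x.obj ((Over.map v).obj a) ≅ z.obj.snd.obj :=
      x.toFunctor.mapIso e₁ ≪≫ z.obj.iso
    refine ⟨a, fpIsoMk e₁ (ObjectProperty.isoMk _ e₂) ?_, ?_⟩
    · exact (Category.id_comp _).symm
    · rw [fp_isHomLift_iff]
      exact IsHomLift.of_fac' _ _ _ rfl rfl ((Category.id_comp _).trans (Category.comp_id _)).symm

lemma repWith_subIncl_of_subspaces {P : MorphismProperty Scheme.{u}}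
    [P.IsStableUnderBaseChange] (hc : ObjectProperty.IsClosedUnderIsomorphisms Q)
    (hsub : ∀ (U : Over S) (x : FibCat.overCat U ⥤ᵇ 𝒳), ∃ (W : Over S) (v : W ⟶ U),
      P v.left ∧ Mono v ∧ ∀ s : (FibCat.overCat U).obj,
        Q (x.obj s) ↔ ∃ g : s.left ⟶ W, g ≫ v = s.hom) :
    AlgSt.RepByAlgSpWith (AlgSp.RepWith P) (AlgSt.subIncl 𝒳 Q) := by
  intro U x
  obtain ⟨W, v, hv, hm, hW⟩ := hsub U x
  refine ⟨⟨(AlgSp.yon S).obj W, AlgSp.IsAlgSpace.yon_obj _⟩,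
    BasedFunctor.comp (AlgSt.toOverCat _) (subspaceToFp hW),
    isEquivOver_comp (toOverCat_isEquivOver _) (subspaceToFp_isEquivOver hc hW), ?_⟩
  have h : AlgSt.spMapOfOver (BasedFunctor.comp (BasedFunctor.comp (AlgSt.toOverCat W)
      (subspaceToFp hW)) (FibCat.fpFst x (AlgSt.subIncl 𝒳 Q))) = (AlgSp.yon S).map v := by
    change AlgSt.spMapOfOver (BasedFunctor.comp (AlgSt.toOverCat W) (AlgSt.overMap v)) = _
    rw [spMapOfOver_overMap, spMapOfOver_toOverCat, Category.id_comp]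
  rw [h]
  exact (AlgSp.repWith_yon_map_iff _ _).2 hv

lemma exists_atlas_sub [Mono v] (hc : ObjectProperty.IsClosedUnderIsomorphisms Q)
    (hW : ∀ s : (FibCat.overCat U).obj, Q (x.obj s) ↔ ∃ g : s.left ⟶ W, g ≫ v = s.hom)
    (hx : AlgSt.RepByAlgSpWith (AlgSp.LocP @Smooth) x)
    (hxs : AlgSt.RepByAlgSpWith AlgSp.IsSurjectiveMor x) :
    ∃ x' : FibCat.overCat W ⥤ᵇ AlgSt.fullSub 𝒳 Q,
      AlgSt.RepByAlgSpWith (AlgSp.LocP @Smooth) x' ∧
        AlgSt.RepByAlgSpWith AlgSp.IsSurjectiveMor x' := by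
  let i := AlgSt.subIncl 𝒳 Q
  let E := BasedFunctor.comp (subspaceToFp hW) (fpSwap x i)
  have hE : FibCat.IsEquivOver E :=
    isEquivOver_comp (subspaceToFp_isEquivOver hc hW) (fpSwap_isEquivOver _ _)
  exact ⟨BasedFunctor.comp E (FibCat.fpFst i x), repWith_equiv_comp hE (repWith_fpFst i hx),
    repWith_equiv_comp hE (repWith_fpFst i hxs)⟩

/-- `Q` is cut out on every chart by an open subscheme. -/
def OpenPred (Q : 𝒳.obj → Prop) : Prop :=
  ∀ (U : Over S) (x : FibCat.overCat U ⥤ᵇ 𝒳), ∃ W : U.left.Opens, ∀ s : (FibCat.overCat U).obj,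
    Q (x.obj s) ↔ ∀ t : s.left.left, s.hom.left t ∈ W

lemma OpenPred.local (hQ : OpenPred Q) : LocalPred Q := fun U R hR H hall s => by
  obtain ⟨W, hW⟩ := hQ U H
  obtain ⟨C, c, -, -, hs, hc⟩ := exists_fppf_family hR
  refine (hW s).2 fun t => ?_
  obtain ⟨j, w, hw⟩ := hs (s.hom.left t)
  rw [← hw]
  exact (hW (Over.mk (c j))).1 (hall ⟨Over.mk (c j), hc j⟩) w

lemma OpenPred.subspace (hQ : OpenPred Q) (U : Over S) (x : FibCat.overCat U ⥤ᵇ 𝒳) :
    ∃ (W : Over S) (v : W ⟶ U), IsOpenImmersion v.left ∧ Mono v ∧ ∀ s : (FibCat.overCat U).obj,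
      Q (x.obj s) ↔ ∃ g : s.left ⟶ W, g ≫ v = s.hom := by
  obtain ⟨W, hW⟩ := hQ U x
  refine ⟨subU W, subUIncl W, inferInstanceAs (IsOpenImmersion W.ι),
    (Over.forget S).mono_of_mono_map (inferInstanceAs (Mono W.ι)), fun s => ?_⟩
  rw [hW s]
  refine ⟨fun h => subUIncl_factor W s.hom h, ?_⟩
  rintro ⟨g, hg⟩ t
  rw [← hg]
  exact W.range_ι.le ⟨g.left t, rfl⟩

/-- A predicate cut out by opens of charts gives an open substack. -/
theorem isOpenSubstack_of_openPred (hh : ∀ {a b : 𝒳.obj}, (b ⟶ a) → Q a → Q b) (hQ : OpenPred Q)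
    (hX : AlgSt.IsAlgStack K₀ 𝒳) : AlgSt.IsOpenSubstack 𝒳 Q K₀ := by
  have hc : ObjectProperty.IsClosedUnderIsomorphisms Q := ⟨fun e h => hh e.inv h⟩
  refine ⟨hc, ⟨fullSub_isStack_of_local hh hQ.local hX, fullSub_diag_of_hom hh hX, ?_⟩,
    repWith_subIncl_of_subspaces (P := @IsOpenImmersion) hc fun U x => hQ.subspace U x⟩
  obtain ⟨U, x, hx, hxs⟩ := hX.atlas
  obtain ⟨W, v, -, hm, hW⟩ := hQ.subspace U x
  obtain ⟨x', h1, h2⟩ := exists_atlas_sub hc hW hx hxs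
  exact ⟨W, x', h1, h2⟩

end Groth.Agent.H29Stk
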